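import Mathlib
import Groth.Prelude.Def_CxOX
import Groth.Prelude.Def_FlatMod2
import Groth.Agent.Lib.Helper5.ShriekProj.Sheaf
import Groth.Agent.Lib.Helper5.FlatQuot.Stalk
import Groth.Agent.Lib.Helper5.Stalk.FlatFree
import Groth.Agent.Lib.Helper5.RHomQC.PerfO
import Groth.Agent.Lib.Helper1.SerreCrit
import Groth.Agent.Lib.Helper1.GlobGen

/-!
# Every `O_X`-module is a quotient of a direct sum of `j_! O_U`'s, which is flat (helper5)
-/
set_option autoImplicit false
set_option linter.unusedSectionVars false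
set_option linter.unusedVariables false
universe u
open CategoryTheory CategoryTheory.Limits Opposite TopologicalSpace AlgebraicGeometry
open Groth.Agent.Lib.Helper5.StalkAdj Groth.Agent.Helper1 Groth.Agent.Helper1.QcCech

namespace Groth.Agent.Lib.Helper5.FlatCover

variable {X : Scheme.{u}}

theorem image_top_le (U : X.Opens) : U.ι ''ᵁ ⊤ ≤ U := le_of_eq (Scheme.Opens.ι_image_top U)

/-- the morphism `O_U ⟶ F|_U` attached to a section of `F` over `U` -/
noncomputable def secMap₀ (F : X.Modules) (U : X.Opens) (t : Γ(F, U)) :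
    Coh.structureModule (U : Scheme.{u}) ⟶ (Scheme.Modules.restrictFunctor U.ι).obj F :=
  ((Scheme.Modules.restrictFunctor U.ι).obj F).unitHomEquiv.symm
    (GlobGen.secOfTop ((Scheme.Modules.restrictFunctor U.ι).obj F)
      (show Γ((Scheme.Modules.restrictFunctor U.ι).obj F, ⊤) from res F (image_top_le U) t))

theorem secMap₀_app_one (F : X.Modules) (U : X.Opens) (t : Γ(F, U)) :
    Scheme.Modules.Hom.app (secMap₀ F U t) ⊤ (1 : Γ((U : Scheme.{u}), ⊤)) =
      res F (image_top_le U) t := by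
  have key : secMap₀ F U t = ((Scheme.Modules.restrictFunctor U.ι).obj F).unitHomEquiv.symm
    (GlobGen.secOfTop ((Scheme.Modules.restrictFunctor U.ι).obj F)
      (show Γ((Scheme.Modules.restrictFunctor U.ι).obj F, ⊤) from res F (image_top_le U) t)) := rfl
  have h2 := congrArg
    (fun v => (((Scheme.Modules.restrictFunctor U.ι).obj F).unitHomEquiv v).val (op ⊤)) key
  simp only [Equiv.apply_symm_apply] at h2
  exact h2.trans (GlobGen.secOfTop_eval_top _ _)

/-- the morphism `j_! O_U ⟶ F` attached to a section of `F` over `U` -/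
noncomputable def secMap (F : X.Modules) (U : X.Opens) (t : Γ(F, U)) :
    CxOX.extZeroUnit U.ι ⟶ F :=
  ((CxOX.extZeroAdj U.ι).homEquiv _ _).symm (secMap₀ F U t)

/-- the canonical section of `j_! O_U` over `U` -/
noncomputable def one' (U : X.Opens) : Γ(CxOX.extZeroUnit U.ι, U.ι ''ᵁ ⊤) :=
  Scheme.Modules.Hom.app ((CxOX.extZeroAdj U.ι).unit.app (Coh.structureModule (U : Scheme.{u}))) ⊤
    (1 : Γ((U : Scheme.{u}), ⊤))

theorem secMap_app_one' (F : X.Modules) (U : X.Opens) (t : Γ(F, U)) :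
    Scheme.Modules.Hom.app (secMap F U t) (U.ι ''ᵁ ⊤) (one' U) = res F (image_top_le U) t := by
  have h1 : (CxOX.extZeroAdj U.ι).unit.app (Coh.structureModule (U : Scheme.{u})) ≫
      (Scheme.Modules.restrictFunctor U.ι).map (secMap F U t) = secMap₀ F U t := by
    exact Equiv.apply_symm_apply ((CxOX.extZeroAdj U.ι).homEquiv _ _) (secMap₀ F U t)
  have h2 := congrArg (fun φ => Scheme.Modules.Hom.app φ ⊤ (1 : Γ((U : Scheme.{u}), ⊤))) h1
  simp only at h2
  rw [secMap₀_app_one] at h2
  exact h2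

/-- the index type -/
abbrev Idx (F : X.Modules) : Type u := Σ U : X.Opens, Γ(F, U)

/-- the family `j_! O_U` -/
noncomputable abbrev fam (F : X.Modules) : Idx F → X.Modules := fun i => CxOX.extZeroUnit i.1.ι

/-- the canonical epimorphism -/
noncomputable def cover (F : X.Modules) : (∐ fam F) ⟶ F :=
  Limits.Sigma.desc (fun i : Idx F => secMap F i.1 i.2)

instance epi_cover (F : X.Modules) : Epi (cover F) := by
  apply SerreCrit.epi_of_locally_surjective
  intro U t x hx
  have hx' : x ∈ U.ι ''ᵁ ⊤ := by rw [Scheme.Opens.ι_image_top]; exact hx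
  refine ⟨U.ι ''ᵁ ⊤, image_top_le U, hx',
    Scheme.Modules.Hom.app (Limits.Sigma.ι (fam F) ⟨U, t⟩) (U.ι ''ᵁ ⊤) (one' U), ?_⟩
  have h1 : Limits.Sigma.ι (fam F) ⟨U, t⟩ ≫ cover F = secMap F U t :=
    Limits.Sigma.ι_desc _ _
  have h2 := congrArg (fun φ => Scheme.Modules.Hom.app φ (U.ι ''ᵁ ⊤) (one' U)) h1
  simp only at h2
  rw [secMap_app_one'] at h2
  exact h2

/-! ### Flatness -/

theorem isFlatAt_extZeroUnit (U : X.Opens) (x : X) :
    FlatMod.IsFlatAt (CxOX.extZeroUnit U.ι) x := by
  by_cases hx : x ∈ U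
  · let y : (U : Scheme.{u}) := ⟨x, hx⟩
    have h0 : FlatMod.IsFlatAt (Coh.structureModule (U : Scheme.{u})) y :=
      Groth.Agent.Lib.Helper5.StalkAdj.flatMod_of_isFinLocFree _
        (Groth.Agent.Lib.Helper5.RHomQC.isFinLocFree_structureModule _) y
    have h1 : FlatMod.IsFlatAt ((Scheme.Modules.restrictFunctor U.ι).obj (CxOX.extZeroUnit U.ι)) y :=
      Groth.Agent.Lib.Helper5.FlatQuot.isFlatAt_of_iso
        (asIso ((CxOX.extZeroAdj U.ι).unit.app (Coh.structureModule (U : Scheme.{u})))) y h0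
    have h2 : FlatMod.IsFlatAt ((Scheme.Modules.pullback U.ι).obj (CxOX.extZeroUnit U.ι)) y :=
      Groth.Agent.Lib.Helper5.FlatQuot.isFlatAt_of_iso
        ((Scheme.Modules.restrictFunctorIsoPullback U.ι).app _) y h1
    exact Groth.Agent.Lib.Helper5.FlatQuot.isFlatAt_of_pullback U.ι _ y h2
  · have hz := Groth.Agent.Lib.Helper5.ShriekProj.isZero_stalk_extZero U
      (Coh.structureModule (U : Scheme.{u})) x hx
    haveI : Subsingleton ((stalkSh X x).obj (CxOX.extZeroUnit U.ι)) :=
      ModuleCat.subsingleton_of_isZero hz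
    exact (inferInstance : Module.Flat (X.presheaf.stalk x)
      ((stalkSh X x).obj (CxOX.extZeroUnit U.ι)))

theorem isFlat_sigma {I : Type u} (f : I → X.Modules) (hf : ∀ i x, FlatMod.IsFlatAt (f i) x) :
    FlatMod.IsFlat (∐ f) := by
  classical
  intro x
  haveI : PreservesColimitsOfSize.{u, u} (stalkSh X x) := (adjS X x).leftAdjoint_preservesColimits
  let e1 : (stalkSh X x).obj (∐ f) ≅ ∐ fun i => (stalkSh X x).obj (f i) :=
    PreservesCoproduct.iso (stalkSh X x) f
  let e2 := ModuleCat.coprodIsoDirectSum (fun i => (stalkSh X x).obj (f i))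
  haveI : ∀ i, Module.Flat (X.presheaf.stalk x) ((stalkSh X x).obj (f i)) := fun i => hf i x
  have h3 : Module.Flat (X.presheaf.stalk x)
      (DirectSum I fun i => ((stalkSh X x).obj (f i) : Type u)) := inferInstance
  exact (Module.Flat.equiv_iff (e1 ≪≫ e2).toLinearEquiv).2 h3

theorem isFlat_cover_source (F : X.Modules) : FlatMod.IsFlat (∐ fam F) :=
  isFlat_sigma (fam F) (fun i x => isFlatAt_extZeroUnit i.1 x)

end Groth.Agent.Lib.Helper5.FlatCover
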